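import Mathlib.Data.Nat.GCD.BigOperators
import Mathlib.NumberTheory.Padics.PadicVal.Basic
import Mathlib.Tactic

/-!
# Arithmetic of the degrees of `PSL_n(q)` (S4932 / S4953, helper872)
-/

set_option autoImplicit false

namespace Cfsg.Agent.H872.BD

/-- `∏_{0<i<n-1} (q^i - 1)` -/
def Pi (q n : ℕ) : ℕ := ∏ i ∈ Finset.range (n - 2), (q ^ (i + 1) - 1)

/-- `1 + q + .. + q^(n-1)` -/
def NN (q n : ℕ) : ℕ := ∑ i ∈ Finset.range n, q ^ i

theorem NN_mul {q : ℕ} (hq : 1 ≤ q) (n : ℕ) : NN q n * (q - 1) = q ^ n - 1 := by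
  obtain ⟨c, rfl⟩ := Nat.exists_eq_add_of_le hq
  induction n with
  | zero => simp [NN]
  | succ n ih =>
    have h1 : NN (1 + c) (n + 1) = NN (1 + c) n + (1 + c) ^ n := Finset.sum_range_succ _ _
    rw [h1, add_mul, ih, pow_succ]
    have h2 : 1 ≤ (1 + c) ^ n := Nat.one_le_pow _ _ (by omega)
    rw [show 1 + c - 1 = c by omega]
    obtain ⟨d, hd⟩ := Nat.exists_eq_add_of_le h2
    rw [hd]
    have h3 : (1 + d) * (1 + c) = 1 + d + (1 + d) * c := by ring
    omega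

theorem gcd_NN {q : ℕ} (hq : 1 ≤ q) (n : ℕ) : Nat.gcd (NN q n) (q - 1) = Nat.gcd n (q - 1) := by
  have h1 : NN q n ≡ n [MOD (q - 1)] := by
    have h2 : q ≡ 1 [MOD (q - 1)] := ((Nat.modEq_iff_dvd' hq).2 dvd_rfl).symm
    induction n with
    | zero => exact Nat.ModEq.refl _
    | succ n ih =>
      have h3 : NN q (n + 1) = NN q n + q ^ n := Finset.sum_range_succ _ _
      rw [h3]
      have h4 := h2.pow n
      rw [one_pow] at h4
      exact ih.add h4
  exact h1.gcd_eq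

/-- the common part of `NN q n` and `q^(n-1) - 1` -/
theorem gcd_NN_pow {q : ℕ} (hq : 1 ≤ q) (n : ℕ) :
    Nat.gcd (NN q (n + 1)) (q ^ n - 1) ∣ Nat.gcd (n + 1) (q - 1) := by
  rw [← gcd_NN hq (n + 1)]
  refine Nat.dvd_gcd (Nat.gcd_dvd_left _ _) ?_
  have h1 : Nat.gcd (NN q (n + 1)) (q ^ n - 1) ∣ q ^ (n + 1) - 1 := by
    rw [← NN_mul hq (n + 1)]
    exact (Nat.gcd_dvd_left _ _).mul_right _
  have h2 : Nat.gcd (NN q (n + 1)) (q ^ n - 1) ∣ q * (q ^ n - 1) := (Nat.gcd_dvd_right _ _).mul_left _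
  have h3 := Nat.dvd_sub h1 h2
  have h4 : q ^ (n + 1) - 1 - q * (q ^ n - 1) = q - 1 := by
    have h5 : 1 ≤ q ^ n := Nat.one_le_pow _ _ hq
    obtain ⟨d, hd⟩ := Nat.exists_eq_add_of_le h5
    rw [pow_succ, hd, Nat.add_sub_cancel_left]
    have h6 : (1 + d) * q = q + q * d := by ring
    rw [h6]
    omega
  rwa [h4] at h3

theorem le_Pi {q n : ℕ} (hq : 2 ≤ q) (hn : 4 ≤ n) : (q - 1) * (q ^ 2 - 1) ≤ Pi q n := by
  obtain ⟨m, rfl⟩ := Nat.exists_eq_add_of_le hn
  have h1 : Pi q (4 + m) = (∏ i ∈ Finset.range m, (q ^ (i + 2 + 1) - 1)) * ((q - 1) * (q ^ 2 - 1)) := by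
    unfold Pi
    rw [show 4 + m - 2 = m + 2 by omega, Finset.prod_range_succ', Finset.prod_range_succ']
    simp only [zero_add, pow_one]
    rw [mul_assoc, mul_comm (q ^ (1 + 1) - 1) (q - 1)]
  rw [h1]
  refine Nat.le_mul_of_pos_left _ (Finset.prod_pos fun i _ => ?_)
  have : 2 ^ 1 ≤ q ^ (i + 2 + 1) := (Nat.pow_le_pow_right (by norm_num) (by omega)).trans (Nat.pow_le_pow_left hq _)
  omega

theorem two_mul_le {r f : ℕ} (hr : 2 ≤ r) (hf : 1 ≤ f) : 2 * f ≤ r ^ f := by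
  have h1 : 2 * f ≤ 2 ^ f := by
    induction f, hf using Nat.le_induction with
    | base => norm_num
    | succ k hk ih =>
      rw [pow_succ]
      have : 2 ≤ 2 ^ k := by
        calc 2 = 2 ^ 1 := by norm_num
          _ ≤ 2 ^ k := Nat.pow_le_pow_right (by norm_num) hk
      omega
  exact h1.trans (Nat.pow_le_pow_left hr f)

/-- (1) `2 f e² < Π` -/
theorem size_one {q n r f e : ℕ} (hr : 2 ≤ r) (hf : 1 ≤ f) (hq : q = r ^ f) (hn : 4 ≤ n) (he : e ≤ q - 1) :
    2 * f * e ^ 2 < Pi q n := by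
  have h2 : 2 * f ≤ q := hq ▸ two_mul_le hr hf
  have hq2 : 2 ≤ q := le_trans (by omega) h2
  refine lt_of_lt_of_le ?_ (le_Pi hq2 hn)
  obtain ⟨c, rfl⟩ := Nat.exists_eq_add_of_le hq2
  have h3 : (2 + c) ^ 2 - 1 = (c + 1) * (c + 3) := by
    have : (2 + c) ^ 2 = (c + 1) * (c + 3) + 1 := by ring
    omega
  rw [h3, show 2 + c - 1 = c + 1 by omega]
  rw [show 2 + c - 1 = c + 1 by omega] at he
  calc 2 * f * e ^ 2 ≤ (2 + c) * (c + 1) ^ 2 := Nat.mul_le_mul h2 (Nat.pow_le_pow_left he 2)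
    _ < (c + 1) * ((c + 1) * (c + 3)) := by nlinarith

/-- (2) `2 f e³ < NN q n` -/
theorem size_two {q n r f e : ℕ} (hr : 2 ≤ r) (hf : 1 ≤ f) (hq : q = r ^ f) (hn : 4 ≤ n) (he : e = Nat.gcd n (q - 1)) :
    2 * f * e ^ 3 < NN q n := by
  have h2 : 2 * f ≤ q := hq ▸ two_mul_le hr hf
  have hq2 : 2 ≤ q := le_trans (by omega) h2
  have he1 : e ≤ q - 1 := he ▸ Nat.gcd_le_right _ (by omega)
  rcases Nat.lt_or_ge n 5 with h5 | h5
  · obtain rfl : n = 4 := by omega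
    have h6 : e ∣ 4 := he ▸ Nat.gcd_dvd_left _ _
    have h7 : e ∣ q - 1 := he ▸ Nat.gcd_dvd_right _ _
    have h8 : NN q 4 = 1 + q + q ^ 2 + q ^ 3 := by simp [NN, Finset.sum_range_succ]
    rw [h8]
    have h9 : e = 1 ∨ e = 2 ∨ e = 4 := by
      have : e ≤ 4 := Nat.le_of_dvd (by norm_num) h6
      clear he he1 h7
      interval_cases e <;> first | omega | (simp at h6)
    rcases h9 with rfl | rfl | rfl
    · have : 0 < q ^ 3 := by positivity
      nlinarith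
    · have h10 : 3 ≤ q := by
        have := Nat.le_of_dvd (by omega) h7
        omega
      have : 9 * q ≤ q ^ 3 := by nlinarith [Nat.mul_le_mul h10 h10]
      nlinarith
    · have h10 : 5 ≤ q := by
        have := Nat.le_of_dvd (by omega) h7
        omega
      rcases Nat.lt_or_ge q 9 with h11 | h11
      · have h12 : q = 5 := by
          obtain ⟨c, hc⟩ := h7
          omega
        have h13 : f = 1 := by
          by_contra h14
          have h15 : 2 ≤ f := by omega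
          have h16 : r ^ 2 ∣ 5 := by rw [← h12, hq]; exact pow_dvd_pow r h15
          have h17 : r ^ 2 ≤ 5 := Nat.le_of_dvd (by norm_num) h16
          have h18 : r = 2 := by nlinarith
          subst h18
          revert h16
          norm_num
        rw [h12, h13]
        norm_num
      · have h12 : 81 * q ≤ q ^ 3 := by nlinarith [Nat.mul_le_mul h11 h11]
        nlinarith
  · have h6 : q ^ 4 ≤ NN q n := by
      unfold NN
      exact Finset.single_le_sum (f := fun i => q ^ i) (fun _ _ => Nat.zero_le _) (Finset.mem_range.2 (by omega))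
    refine lt_of_lt_of_le ?_ h6
    calc 2 * f * e ^ 3 ≤ q * (q - 1) ^ 3 := Nat.mul_le_mul h2 (Nat.pow_le_pow_left he1 3)
      _ < q * q ^ 3 := by
          refine Nat.mul_lt_mul_of_pos_left ?_ (by omega)
          exact Nat.pow_lt_pow_left (by omega) (by norm_num)
      _ = q ^ 4 := by ring

/-- The degrees are not related. -/
theorem not_rel {q n r f o : ℕ} (hr : 2 ≤ r) (hf : 1 ≤ f) (hq : q = r ^ f) (hn : 4 ≤ n)
    (ho : o = 2 * f * Nat.gcd n (q - 1)) {a b t1 t2 : ℕ} (ht1 : t1 ∣ Nat.gcd n (q - 1)) (ht2 : t2 ∣ Nat.gcd n (q - 1))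
    (ha : a * t1 = Pi q n * (q ^ (n - 1) - 1)) (hb : b * t2 = NN q n * Pi q n)
    {d d' : ℕ} (hd : d ∣ o) (h : a * d = b * d') : False := by
  set e := Nat.gcd n (q - 1) with he
  have h2 : 2 * f ≤ q := hq ▸ two_mul_le hr hf
  have hq2 : 2 ≤ q := le_trans (by omega) h2
  have he0 : 0 < e := Nat.gcd_pos_of_pos_left _ (by omega)
  have ho0 : 0 < o := by rw [ho]; positivity
  have hP : 0 < Pi q n := by
    refine Finset.prod_pos fun i _ => ?_
    have : 2 ^ 1 ≤ q ^ (i + 1) := (Nat.pow_le_pow_right (by norm_num) (by omega)).trans (Nat.pow_le_pow_left hq2 _)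
    omega
  have key : (q ^ (n - 1) - 1) * (t2 * d) = NN q n * (t1 * d') := by
    apply Nat.eq_of_mul_eq_mul_left hP
    calc Pi q n * ((q ^ (n - 1) - 1) * (t2 * d)) = (a * d) * (t1 * t2) := by
          rw [← mul_assoc, ← ha]; ring
      _ = (b * d') * (t1 * t2) := by rw [h]
      _ = (b * t2) * (t1 * d') := by ring
      _ = _ := by rw [hb]; ring
  obtain ⟨m, rfl⟩ : ∃ m, n = m + 1 := ⟨n - 1, by omega⟩
  rw [Nat.add_sub_cancel] at key
  have h3 : NN q (m + 1) ∣ (q ^ m - 1) * (t2 * d) := ⟨_, key⟩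
  have h4 : NN q (m + 1) ∣ Nat.gcd (NN q (m + 1)) (q ^ m - 1) * (t2 * d) := by
    have := Nat.dvd_gcd (dvd_mul_right (NN q (m + 1)) (t2 * d)) h3
    rwa [Nat.gcd_mul_right] at this
  have h5 : Nat.gcd (NN q (m + 1)) (q ^ m - 1) * (t2 * d) ≤ e * (e * o) :=
    Nat.mul_le_mul (Nat.le_of_dvd he0 (gcd_NN_pow (by omega) m))
      (Nat.mul_le_mul (Nat.le_of_dvd he0 ht2) (Nat.le_of_dvd ho0 hd))
  have hd0 : 0 < d := Nat.pos_of_dvd_of_pos hd ho0
  have ht0 : 0 < t2 := Nat.pos_of_dvd_of_pos ht2 he0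
  have h6 : 0 < Nat.gcd (NN q (m + 1)) (q ^ m - 1) := by
    apply Nat.gcd_pos_of_pos_right
    have : 2 ^ 1 ≤ q ^ m := (Nat.pow_le_pow_right (by norm_num) (by omega)).trans (Nat.pow_le_pow_left hq2 _)
    omega
  have h7 := (Nat.le_of_dvd (by positivity) h4).trans h5
  have h8 := size_two hr hf hq hn he
  rw [ho] at h7
  have h9 : e * (e * (2 * f * e)) = 2 * f * e ^ 3 := by ring
  rw [h9] at h7
  exact absurd h7 (not_le.2 h8)

end Cfsg.Agent.H872.BD
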