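import Cfsg.Agent.H589.BD.Kill
import Cfsg.Agent.H872.BD.PslNum
import Cfsg.Agent.H872.BD.PslTame
import Cfsg.Agent.H133.PB.LieCross
import Cfsg.Agent.H113.PSL.Main
import Cfsg.Agent.H175.Eight.L3
import Cfsg.Agent.H681.DegBasic
import Cfsg.Agent.H934.OutB

/-!
# `PSL_n(q)` at its own characteristic, part II: `n ≥ 4` and `PSL_3(4)` (S4932 / S4953, helper872)

* `kill_psl` : `PSL_n(q)`, `n ≥ 4`, with the cuspidal character and the character Harish-Chandra induced from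
  the cuspidal character of `GL_{n-1}(q)`;
* `kill_psl_three_four` : `PSL_3(4)`, degrees `20, 35, 63`;
* `row_psl_own` : the row of the family.
-/

set_option autoImplicit false
set_option linter.unusedSectionVars false

namespace Cfsg.Agent.H872.BD

open Cfsg Matrix Cfsg.Agent.H589.BD Cfsg.Agent.H585.BD

universe u

/-- characters of degree divisible by a prime different from the characteristic are in the principal block -/
theorem inB0_of_dvd {S : Type u} [Group S] [Finite S] {r l : ℕ} (hr : r.Prime) (hl : l.Prime) (hlr : l ≠ r)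
    (hS : IsLieTypeChar r S) (χ : IrrCharacter S) (h : l ∣ charDegree (χ : S → ℂ)) : InB0 r χ := fun _ hM =>
  Cfsg.Agent.H133.PB.mem_principal_of_lie hr hl hlr hS χ h hM

/-- characters of degree `≠ 1` are nontrivial -/
theorem nt_of_ne {S : Type u} [Group S] (χ : IrrCharacter S) (h : charDegree (χ : S → ℂ) ≠ 1) : NT χ := by
  refine ⟨1, fun h1 => h ?_⟩
  rw [Cfsg.Agent.Blocks.Basic.irr_one_eq_charDegree χ.2] at h1
  exact_mod_cast h1

theorem exists_of_equiv {S : Type u} [Group S] {T : Type} [Group T] (e : S ≃* T) (φ : IrrCharacter T) :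
    ∃ χ : IrrCharacter S, charDegree (χ : S → ℂ) = charDegree (φ : T → ℂ) := by
  have h1 : charDegree (φ : T → ℂ) ∈ charDegrees T := ⟨φ, rfl⟩
  exact Cfsg.Agent.H681.DegBasic.charDegrees_comp e.toMonoidHom e.surjective h1

variable {S : Type u} [Group S] [Finite S] [IsSimpleGroup S] {F : Type} [Field F] [Fintype F] {r : ℕ}
  [hr : Fact r.Prime] [CharP F r]

theorem not_dvd_Pi {q f : ℕ} (hf : 1 ≤ f) (hq : q = r ^ f) (n : ℕ) : ¬ r ∣ Pi q n := by
  intro h
  obtain ⟨i, -, hi⟩ := (Prime.dvd_finsetProd_iff hr.out.prime _).1 h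
  have h1 : r ∣ q ^ (i + 1) := by
    rw [hq, ← pow_mul]
    exact dvd_pow_self r (by positivity)
  have h2 : 1 ≤ q ^ (i + 1) := Nat.one_le_pow _ _ (by rw [hq]; exact Nat.pow_pos hr.out.pos)
  have h3 := Nat.dvd_sub h1 hi
  rw [show q ^ (i + 1) - (q ^ (i + 1) - 1) = 1 by omega] at h3
  exact hr.out.one_lt.ne' (Nat.dvd_one.1 h3)

/-- the two characters -/
theorem exists_chars {n : ℕ} (hn : 4 ≤ n) (e : S ≃* ProjectiveSpecialLinearGroup (Fin n) F) :
    ∃ (α β : IrrCharacter S) (t1 t2 : ℕ), t1 ∣ Nat.gcd n (Fintype.card F - 1) ∧ t2 ∣ Nat.gcd n (Fintype.card F - 1) ∧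
      charDegree (α : S → ℂ) * t1 = Pi (Fintype.card F) n * (Fintype.card F ^ (n - 1) - 1) ∧
      charDegree (β : S → ℂ) * t2 = NN (Fintype.card F) n * Pi (Fintype.card F) n := by
  have hq : 2 ≤ Fintype.card F := Fintype.one_lt_card
  obtain ⟨α, t1, ht1, hα⟩ := Cfsg.Agent.H113.PSL.Degrees.exists_cusp (F := F) (n := n) (by omega)
    (Cfsg.Agent.H113.PSL.Main.hasCusp F n (by omega))
  obtain ⟨m, rfl⟩ : ∃ m, n = m + 2 := ⟨n - 2, by omega⟩
  obtain ⟨β, t2, ht2, hβ⟩ := Cfsg.Agent.H113.PSL.Degrees.exists_hyper (F := F) (m := m + 1) (by omega)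
    (Cfsg.Agent.H113.PSL.Main.hasCusp F (m + 1) (by omega))
  obtain ⟨α', hα'⟩ := exists_of_equiv e α
  obtain ⟨β', hβ'⟩ := exists_of_equiv e β
  refine ⟨α', β', t1, t2, ht1, ht2, ?_, ?_⟩
  · rw [hα', hα, show m + 2 - 1 = m + 1 by omega, Finset.prod_range_succ]
    rfl
  · have h1 : charDegree (β : ProjectiveSpecialLinearGroup (Fin (m + 1 + 1)) F → ℂ) * t2 * (Fintype.card F - 1) =
        NN (Fintype.card F) (m + 2) * Pi (Fintype.card F) (m + 2) * (Fintype.card F - 1) := by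
      rw [hβ, mul_right_comm, NN_mul (by omega)]
      rfl
    rw [hβ']
    exact Nat.eq_of_mul_eq_mul_right (show 0 < Fintype.card F - 1 by omega) h1

/-- **`PSL_n(q)`, `n ≥ 4`, own characteristic.** -/
theorem kill_psl (hna : ¬ IsMulCommutative S) (hS : SizeOK S) {n : ℕ} (hn : 4 ≤ n)
    (e : S ≃* ProjectiveSpecialLinearGroup (Fin n) F) : Kill r S := by
  obtain ⟨f, hf, hF⟩ := card_eq_pow F r
  set q := Fintype.card F with hq
  have hq2 : 2 ≤ q := Fintype.one_lt_card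
  have hlie : IsLieTypeChar r S := Or.inl ⟨F, inferInstance, inferInstance, inferInstance, n, by omega, by omega, ⟨e⟩⟩
  have ho : Nat.card (Out S) = 2 * f * Nat.gcd n (q - 1) := by
    rw [← card_out (F := F) (r := r) (n := n) (by omega) hf hF]
    exact Cfsg.Agent.H934.OutB.card_out_congr e
  obtain ⟨α, β, t1, t2, ht1, ht2, hα, hβ⟩ := exists_chars hn e
  rw [← hq] at ht1 ht2 hα hβ
  have hsize := size_one (n := n) hr.out.two_le hf hF hn (e := Nat.gcd n (q - 1)) (Nat.gcd_le_right _ (by omega))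
  have he0 : 0 < Nat.gcd n (q - 1) := Nat.gcd_pos_of_pos_left _ (by omega)
  -- the common divisor
  obtain ⟨g, hg⟩ : Nat.gcd n (q - 1) ∣ Pi q n := by
    refine (Nat.gcd_dvd_right _ _).trans ?_
    have h1 : (0 : ℕ) ∈ Finset.range (n - 2) := Finset.mem_range.2 (by omega)
    have h2 := Finset.dvd_prod_of_mem (fun i => q ^ (i + 1) - 1) h1
    simpa [Pi] using h2
  have hg1 : Nat.card (Out S) < g := by
    rw [ho]
    rw [hg] at hsize
    apply Nat.lt_of_mul_lt_mul_left (a := Nat.gcd n (q - 1))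
    calc Nat.gcd n (q - 1) * (2 * f * Nat.gcd n (q - 1)) = 2 * f * Nat.gcd n (q - 1) ^ 2 := by ring
      _ < _ := hsize
  have gα : g ∣ charDegree (α : S → ℂ) := by
    obtain ⟨s, hs⟩ := ht1
    have ht0 : 0 < t1 := Nat.pos_of_ne_zero (by rintro rfl; rw [zero_mul] at hs; omega)
    refine ⟨s * (q ^ (n - 1) - 1), Nat.eq_of_mul_eq_mul_right ht0 ?_⟩
    rw [hα, hg]
    nth_rewrite 1 [hs]
    ring
  have gβ : g ∣ charDegree (β : S → ℂ) := by
    obtain ⟨s, hs⟩ := ht2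
    have ht0 : 0 < t2 := Nat.pos_of_ne_zero (by rintro rfl; rw [zero_mul] at hs; omega)
    refine ⟨s * NN q n, Nat.eq_of_mul_eq_mul_right ht0 ?_⟩
    rw [hβ, hg]
    nth_rewrite 1 [hs]
    ring
  have ho1 : 0 < Nat.card (Out S) := by
    rw [ho]
    positivity
  -- a prime divisor of `g`
  obtain ⟨l, hl, hlg⟩ := Nat.exists_prime_and_dvd (show g ≠ 1 by omega)
  have hlr : l ≠ r := by
    rintro rfl
    exact not_dvd_Pi (r := l) hf hF n (hlg.trans ⟨_, by rw [hg, mul_comm]⟩)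
  have hdvd : r ∣ Nat.card S :=
    Cfsg.Agent.H330.Gow.dvd_card (Cfsg.Agent.H330.Gow.hasSplit_of_ab
      (Cfsg.Agent.H716.SplitAb.hasSplitAb_of_lie hr.out hlie))
  refine kill_common hna hS hdvd α β (inB0_of_dvd hr.out hl hlr hlie α (hlg.trans gα))
    (inB0_of_dvd hr.out hl hlr hlie β (hlg.trans gβ)) (nt_of_ne α fun h => ?_) (nt_of_ne β fun h => ?_) hg1 gα gβ ?_
  · rw [h] at gα
    have := Nat.dvd_one.1 gα
    omega
  · rw [h] at gβ
    have := Nat.dvd_one.1 gβ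
    omega
  · rintro ⟨d, d', hd, hd', h⟩
    exact not_rel hr.out.two_le hf hF hn ho ht1 ht2 hα hβ hd h

/-- **`PSL_3(4)`** -/
theorem kill_psl_three_four (hna : ¬ IsMulCommutative S) (e : S ≃* ProjectiveSpecialLinearGroup (Fin 3) F)
    (h4 : Fintype.card F = 4) : Kill r S := by
  obtain ⟨f, hf, hF⟩ := card_eq_pow F r
  have hr2 : r = 2 := by
    have h3 : r ∣ 2 ^ 2 := by rw [show 2 ^ 2 = 4 by norm_num, ← h4, hF]; exact dvd_pow_self r (by omega)
    exact (Nat.prime_dvd_prime_iff_eq hr.out Nat.prime_two).1 (hr.out.dvd_of_dvd_pow h3)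
  subst hr2
  have hf2 : f = 2 := by
    rw [h4] at hF
    exact (Nat.pow_right_injective le_rfl (by rw [← hF]; norm_num : 2 ^ f = 2 ^ 2))
  subst hf2
  have hlie : IsLieTypeChar 2 S := Or.inl ⟨F, inferInstance, inferInstance, inferInstance, 3, by omega, by omega, ⟨e⟩⟩
  have ho : Nat.card (Out S) = 12 := by
    rw [Cfsg.Agent.H934.OutB.card_out_congr e, card_out (F := F) (r := 2) (n := 3) le_rfl hf hF, h4]
    norm_num
  have hex : ∀ d ∈ [1, 20, 35, 45, 63, 64], ∃ χ : IrrCharacter S, charDegree (χ : S → ℂ) = d := by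
    intro d hd
    obtain ⟨φ, hφ⟩ := (Cfsg.Agent.H175.Eight.mem_l34 h4 d).2 hd
    obtain ⟨χ, hχ⟩ := exists_of_equiv e φ
    exact ⟨χ, hχ.trans hφ⟩
  obtain ⟨α, hα⟩ := hex 20 (by simp)
  obtain ⟨β, hβ⟩ := hex 35 (by simp)
  obtain ⟨γ, hγ⟩ := hex 63 (by simp)
  have hrel : ∀ a b : ℕ, (∃ l : ℕ, l.Prime ∧ ¬ l ∣ a ∧ l ∣ b ∧ 5 ≤ l) → ¬ Rel 12 a b := by
    rintro a b ⟨l, hl, ha, hb, h5⟩ ⟨d, d', hd, -, h⟩
    have h1 : l ∣ a * d := by rw [h]; exact hb.mul_right _
    rcases hl.dvd_mul.1 h1 with h2 | h2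
    · exact ha h2
    · have h3 : l ∣ 12 := h2.trans hd
      have h4 : l ∣ 2 ^ 2 * 3 := by simpa using h3
      rcases hl.dvd_mul.1 h4 with h5' | h5'
      · have := Nat.le_of_dvd (by norm_num) (hl.dvd_of_dvd_pow h5')
        omega
      · have := Nat.le_of_dvd (by norm_num) h5'
        omega
  have hrel' : ∀ a b : ℕ, (∃ l : ℕ, l.Prime ∧ l ∣ a ∧ ¬ l ∣ b ∧ 5 ≤ l) → ¬ Rel 12 a b := by
    rintro a b ⟨l, hl, ha, hb, h5⟩ ⟨d, d', hd, hd', h⟩
    exact hrel b a ⟨l, hl, hb, ha, h5⟩ ⟨d', d, hd', hd, h.symm⟩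
  refine kill_three hna α β γ
    (inB0_of_dvd Nat.prime_two (l := 5) (by norm_num) (by norm_num) hlie α (by rw [hα]; norm_num))
    (inB0_of_dvd Nat.prime_two (l := 5) (by norm_num) (by norm_num) hlie β (by rw [hβ]; norm_num))
    (inB0_of_dvd Nat.prime_two (l := 3) (by norm_num) (by norm_num) hlie γ (by rw [hγ]; norm_num))
    (nt_of_ne α (by rw [hα]; norm_num)) (nt_of_ne β (by rw [hβ]; norm_num)) (nt_of_ne γ (by rw [hγ]; norm_num)) ?_ ?_ ?_
  · rw [ho, hα, hβ]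
    exact hrel _ _ ⟨7, by norm_num, by norm_num, by norm_num, by norm_num⟩
  · rw [ho, hα, hγ]
    exact hrel _ _ ⟨7, by norm_num, by norm_num, by norm_num, by norm_num⟩
  · rw [ho, hβ, hγ]
    exact hrel' _ _ ⟨5, by norm_num, by norm_num, by norm_num, by norm_num⟩

/-- **The row `PSL_n(q)`, own characteristic.** -/
theorem row_psl_own {S : Type u} [Group S] [Finite S] [IsSimpleGroup S] (hna : ¬ IsMulCommutative S) (hS : SizeOK S)
    {r : ℕ} (hr : r.Prime) (h : IsPSLChar r S) : Row r S := by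
  have : Fact r.Prime := ⟨hr⟩
  obtain ⟨F, _, _, _, n, hn, h4, ⟨e⟩⟩ := h
  rcases Nat.lt_or_ge n 4 with h5 | h5
  · have h6 : n = 2 ∨ n = 3 := by omega
    rcases h6 with rfl | rfl
    · exact Or.inr (tame_psl_two hna e (h4 rfl))
    · by_cases h7 : Fintype.card F = 2
      · exact Or.inr (tame_psl_three_two hna e h7)
      · by_cases h8 : Fintype.card F = 4
        · exact Or.inl (kill_psl_three_four hna e h8)
        · exact Or.inr (tame_psl_three hna e h7 h8)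
  · exact Or.inl (kill_psl hna hS h5 e)

end Cfsg.Agent.H872.BD
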