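import Cfsg.Agent.H872.BD.PslKill
import Cfsg.Agent.H787.BD.Asm
import Cfsg.Agent.H654.BD.SizeOK

/-!
# The field `TabOwn.psl` of the table of rows (S4932 / S4953)
-/

set_option autoImplicit false

namespace Cfsg.Agent.H872.BD

open Cfsg Cfsg.Agent.H589.BD Cfsg.Agent.H787.BD

universe u

theorem psl : ∀ p : ℕ, p.Prime → RowsOf.{u} p (fun S _ => IsPSLChar p S) := by
  intro p hp S _ _ _ hna hs _ h
  exact row_psl_own hna hs hp h

end Cfsg.Agent.H872.BD
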